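import Cfsg.Agent.Lib.Helper11.ZJ
import Cfsg.Agent.Lib.Helper11.PStabAbelian

set_option autoImplicit false
set_option linter.unusedSectionVars false
set_option linter.style.haveILetI false
open Cfsg

/-!
# An axiomatic form of Glauberman's ZJ-theorem

`𝒜` is a nonempty set of abelian subgroups of a Sylow `p`-subgroup `T` of `X`, such that the
intersection of the members inside `Q` is normalized by `N_X(Q)`, and such that a replacement
property holds for the subgroups of `T` of class at most two.  If `X` acts `p`-stably on its normal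
`p`-subgroups, `T` is a maximal subgroup and `C_X(O_p(X)) ≤ O_p(X)`, then the intersection of the
members of `𝒜` is normal in `X`.
-/

namespace Cfsg.Agent.Lib.Helper11.AxZJ

open scoped commutatorElement
open Cfsg.Agent.Lib.Helper11

variable {X : Type*} [Group X]

/-- the intersection of the members of `𝒜` inside `Q` -/
def wOf (𝒜 : Set (Subgroup X)) (Q : Subgroup X) : Subgroup X := sInf {A | A ∈ 𝒜 ∧ A ≤ Q}

theorem mem_wOf {𝒜 : Set (Subgroup X)} {Q : Subgroup X} {x : X} :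
    x ∈ wOf 𝒜 Q ↔ ∀ A ∈ 𝒜, A ≤ Q → x ∈ A := by
  unfold wOf
  rw [Subgroup.mem_sInf]
  constructor
  · intro h A hA hAQ
    exact h A ⟨hA, hAQ⟩
  · rintro h A ⟨hA, hAQ⟩
    exact h A hA hAQ

theorem wOf_le_of_mem {𝒜 : Set (Subgroup X)} {Q A : Subgroup X} (hA : A ∈ 𝒜) (hAQ : A ≤ Q) :
    wOf 𝒜 Q ≤ A := sInf_le ⟨hA, hAQ⟩

theorem wOf_anti {𝒜 : Set (Subgroup X)} {Q₁ Q₂ : Subgroup X} (h : Q₁ ≤ Q₂) :
    wOf 𝒜 Q₂ ≤ wOf 𝒜 Q₁ :=
  sInf_le_sInf (fun _ hA => ⟨hA.1, hA.2.trans h⟩)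

/-- the hypotheses -/
structure AxCtx (p : ℕ) (T : Sylow p X) (𝒜 : Set (Subgroup X)) : Prop where
  hsub : ∀ A ∈ 𝒜, A ≤ (T : Subgroup X)
  hab : ∀ A ∈ 𝒜, IsMulCommutative A
  hne : 𝒜.Nonempty
  hinv : ∀ Q : Subgroup X, Q ≤ (T : Subgroup X) → (∃ A ∈ 𝒜, A ≤ Q) →
    Subgroup.normalizer (Q : Set X) ≤ Subgroup.normalizer ((wOf 𝒜 Q : Subgroup X) : Set X)
  hrep : ∀ B : Subgroup X, B ≤ (T : Subgroup X) → ⁅⁅B, B⁆, B⁆ = ⊥ →
    (∃ A ∈ 𝒜, ⁅B, B⁆ ≤ A ∧ ¬ B ≤ A) →
    ∃ A ∈ 𝒜, ⁅B, B⁆ ≤ A ∧ ¬ B ≤ A ∧ B ≤ Subgroup.normalizer (A : Set X)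
  hst : ∀ (V : Subgroup X) [V.Normal], IsPGroup p V → IsPStableOn p V
  hco : IsCoatom (T : Subgroup X)

theorem quadOn_of_le_normalizer {A V : Subgroup X} (hA : IsMulCommutative A)
    (hVA : V ≤ Subgroup.normalizer (A : Set X)) {a : X} (ha : a ∈ A) : QuadOn V a := by
  intro v hv
  have h1 : v * a * v⁻¹ ∈ A := (Subgroup.mem_normalizer_iff.mp (hVA hv) a).mp ha
  have h2 : ⁅v, a⁆ ∈ A := by
    rw [commutatorElement_def]; exact mul_mem h1 (inv_mem ha)
  have h3 := Subgroup.le_centralizer_iff_isMulCommutative.mpr hA ha _ h2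
  exact h3.symm

/-- the preimage of `O_p(X / C_X(V))` normalizes every subgroup of `V` normalized by `T` -/
theorem comap_pCore_le_normalizer [Finite X] {p : ℕ} [Fact p.Prime] (T : Sylow p X)
    (V : Subgroup X) [V.Normal] (U : Subgroup X) (hUV : U ≤ V)
    (hTU : (T : Subgroup X) ≤ Subgroup.normalizer (U : Set X)) :
    (pCore p (X ⧸ Subgroup.centralizer (V : Set X))).comap
      (QuotientGroup.mk' (Subgroup.centralizer (V : Set X))) ≤
      Subgroup.normalizer (U : Set X) := by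
  intro l hl
  obtain ⟨s, hs, hc⟩ := exists_sylow_mul_of_mem_pCore_quotient T
    (Subgroup.centralizer (V : Set X)) (l := l) hl
  have h1 : s ∈ Subgroup.normalizer (U : Set X) := hTU hs
  have h2 : s⁻¹ * l ∈ Subgroup.normalizer (U : Set X) := by
    apply Subgroup.centralizer_le_normalizer
    exact Subgroup.centralizer_le (fun x hx => hUV hx) hc
  have h3 := mul_mem h1 h2
  rwa [mul_inv_cancel_left] at h3

theorem ax_key [Finite X] {p : ℕ} [Fact p.Prime] (T : Sylow p X) (𝒜 : Set (Subgroup X))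
    (h : AxCtx p T 𝒜) :
    ∀ n : ℕ, ∀ B : Subgroup X, B.Normal → IsPGroup p B → Nat.card B = n →
      (wOf 𝒜 (T : Subgroup X) ⊓ B).Normal := by
  intro n
  induction n using Nat.strong_induction_on with
  | _ n ih =>
  intro B hB hBp hn
  obtain ⟨W, hWdef⟩ : ∃ W : Subgroup X, W = wOf 𝒜 (T : Subgroup X) := ⟨_, rfl⟩
  rw [← hWdef]
  obtain ⟨A₀, hA₀⟩ := h.hne
  have hWA : ∀ A ∈ 𝒜, W ≤ A := fun A hA => hWdef ▸ wOf_le_of_mem hA (h.hsub A hA)
  have hBT : B ≤ (T : Subgroup X) := normal_pGroup_le_sylow hB hBp T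
  have hBtop : ∀ g : X, g ∈ Subgroup.normalizer (B : Set X) := fun g => by
    rw [Subgroup.normalizer_eq_top_iff.mpr hB]; trivial
  have hTW : (T : Subgroup X) ≤ Subgroup.normalizer (W : Set X) := by
    rw [hWdef]
    exact Subgroup.le_normalizer.trans (h.hinv _ le_rfl ⟨A₀, hA₀, h.hsub A₀ hA₀⟩)
  have hTW₁ : (T : Subgroup X) ≤ Subgroup.normalizer ((W ⊓ B : Subgroup X) : Set X) :=
    fun t ht => mem_normalizer_inf (hTW ht) (hBtop t)
  have hWcomm : ∀ x ∈ W, ∀ y ∈ W, x * y = y * x := by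
    intro x hx y hy
    have := Subgroup.le_centralizer_iff_isMulCommutative.mpr (h.hab A₀ hA₀) (hWA A₀ hA₀ hx) y
      (hWA A₀ hA₀ hy)
    exact this.symm
  by_cases hB0 : B = ⊥
  · rw [hB0, inf_bot_eq]; infer_instance
  -- reduce to `B = normalClosure (W ⊓ B)`
  have hB₁le : Subgroup.normalClosure ((W ⊓ B : Subgroup X) : Set X) ≤ B :=
    Subgroup.normalClosure_le_normal (fun x hx => (Subgroup.mem_inf.mp hx).2)
  have hZ₁B₁ : W ⊓ B ≤ Subgroup.normalClosure ((W ⊓ B : Subgroup X) : Set X) :=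
    Subgroup.le_normalClosure
  by_cases hB₁ : Subgroup.normalClosure ((W ⊓ B : Subgroup X) : Set X) = B
  swap
  · have hlt : Subgroup.normalClosure ((W ⊓ B : Subgroup X) : Set X) < B :=
      lt_of_le_of_ne hB₁le hB₁
    have h1 := ih (Nat.card (Subgroup.normalClosure ((W ⊓ B : Subgroup X) : Set X)))
      (by rw [← hn]; exact card_lt_of_lt hlt) _
      Subgroup.normalClosure_normal (hBp.to_le hB₁le) rfl
    rw [← hWdef] at h1
    have h2 : W ⊓ Subgroup.normalClosure ((W ⊓ B : Subgroup X) : Set X) = W ⊓ B :=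
      le_antisymm (inf_le_inf_left _ hB₁le) (le_inf inf_le_left hZ₁B₁)
    rw [← h2]; exact h1
  -- `Y = W ⊓ B'` is normal
  have hB'lt : ⁅B, B⁆ < B := commutator_lt_of_isPGroup hBp hB0
  have hB'n : (⁅B, B⁆).Normal := inferInstance
  have hYn : (W ⊓ ⁅B, B⁆).Normal := by
    have h1 := ih (Nat.card (⁅B, B⁆ : Subgroup X))
      (by rw [← hn]; exact card_lt_of_lt hB'lt) _ hB'n (hBp.to_le hB'lt.le) rfl
    rw [← hWdef] at h1
    exact h1
  -- `[W ⊓ B, B] ≤ Y`
  have hcomm : ⁅W ⊓ B, B⁆ ≤ W ⊓ ⁅B, B⁆ := by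
    apply le_inf
    · rw [Subgroup.commutator_le]
      intro z hz b hb
      have hzZ : z ∈ W := (Subgroup.mem_inf.mp hz).1
      have hbN : b ∈ Subgroup.normalizer (W : Set X) := hTW (hBT hb)
      have h1 : b * z⁻¹ * b⁻¹ ∈ W := (Subgroup.mem_normalizer_iff.mp hbN z⁻¹).mp (inv_mem hzZ)
      have h2 : ⁅z, b⁆ = z * (b * z⁻¹ * b⁻¹) := by
        rw [commutatorElement_def]; group
      rw [h2]; exact mul_mem hzZ h1
    · exact Subgroup.commutator_mono inf_le_right le_rfl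
  -- hence `B' ≤ W`
  have hB'W : ⁅B, B⁆ ≤ W := by
    have hTn : (sectionKernel B (W ⊓ ⁅B, B⁆)).Normal := by
      unfold sectionKernel
      infer_instance
    have hmemT : ∀ g : X, g ∈ sectionKernel B (W ⊓ ⁅B, B⁆) ↔
        ∀ b ∈ B, ⁅g⁻¹, b⁻¹⁆ ∈ W ⊓ ⁅B, B⁆ := by
      intro g
      unfold sectionKernel
      rw [Subgroup.mem_comap, Subgroup.mem_centralizer_iff]
      constructor
      · intro hg b hb
        have h1 := hg _ (Subgroup.mem_map_of_mem _ hb)
        rw [← map_mul, ← map_mul] at h1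
        have h2 := QuotientGroup.eq.mp h1
        have h3 : (b * g)⁻¹ * (g * b) = ⁅g⁻¹, b⁻¹⁆ := by
          rw [commutatorElement_def]; group
        rwa [h3] at h2
      · rintro hg _ ⟨b, hb, rfl⟩
        rw [← map_mul, ← map_mul]
        apply QuotientGroup.eq.mpr
        have h3 : (b * g)⁻¹ * (g * b) = ⁅g⁻¹, b⁻¹⁆ := by
          rw [commutatorElement_def]; group
        rw [h3]; exact hg b hb
    have hZ₁T : ((W ⊓ B : Subgroup X) : Set X) ⊆ sectionKernel B (W ⊓ ⁅B, B⁆) := by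
      intro z hz
      rw [SetLike.mem_coe, hmemT]
      intro b hb
      apply hcomm
      exact Subgroup.commutator_mem_commutator (inv_mem hz) (inv_mem hb)
    have hBT' : B ≤ sectionKernel B (W ⊓ ⁅B, B⁆) :=
      le_of_eq_of_le hB₁.symm (Subgroup.normalClosure_le_normal hZ₁T)
    rw [Subgroup.commutator_le]
    intro b₁ hb₁ b₂ hb₂
    have h1 := (hmemT b₁⁻¹).mp (hBT' (inv_mem hb₁)) b₂⁻¹ (inv_mem hb₂)
    rw [inv_inv, inv_inv] at h1
    exact (Subgroup.mem_inf.mp h1).1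
  -- `B` has class at most two
  have hcl2 : ⁅⁅B, B⁆, B⁆ = ⊥ := by
    rw [Subgroup.commutator_eq_bot_iff_le_centralizer, Subgroup.le_centralizer_iff]
    have hCn : (Subgroup.centralizer ((⁅B, B⁆ : Subgroup X) : Set X)).Normal := inferInstance
    have hsub : ((W ⊓ B : Subgroup X) : Set X) ⊆
        Subgroup.centralizer ((⁅B, B⁆ : Subgroup X) : Set X) := by
      intro z hz
      rw [SetLike.mem_coe, Subgroup.mem_centralizer_iff]
      intro c hc
      exact hWcomm c (hB'W hc) z (Subgroup.mem_inf.mp hz).1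
    exact le_of_eq_of_le hB₁.symm (Subgroup.normalClosure_le_normal hsub)
  -- the largest normal subgroup normalizing `W ⊓ B`
  obtain ⟨L, hLdef⟩ : ∃ L : Subgroup X,
      L = (Subgroup.normalizer ((W ⊓ B : Subgroup X) : Set X)).normalCore := ⟨_, rfl⟩
  have hLn : L.Normal := by rw [hLdef]; exact Subgroup.normalCore_normal _
  have hLN : L ≤ Subgroup.normalizer ((W ⊓ B : Subgroup X) : Set X) := by
    rw [hLdef]; exact Subgroup.normalCore_le _
  have hLmax : ∀ K : Subgroup X, K.Normal →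
      K ≤ Subgroup.normalizer ((W ⊓ B : Subgroup X) : Set X) → K ≤ L := by
    intro K hK hKN
    rw [hLdef]
    exact (Subgroup.normal_le_normalCore (hN := hK)).mpr hKN
  obtain ⟨P₁, hP₁def⟩ : ∃ P₁ : Subgroup X, P₁ = (T : Subgroup X) ⊓ L := ⟨_, rfl⟩
  have hfrat : Subgroup.normalizer (P₁ : Set X) ⊔ L = ⊤ := by
    rw [hP₁def]; exact frattini_inf T L
  have hTP₁ : (T : Subgroup X) ≤ Subgroup.normalizer (P₁ : Set X) := by
    rw [hP₁def]; exact sylow_le_normalizer_inf_normal T L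
  obtain ⟨W₁, hW₁def⟩ : ∃ W₁ : Subgroup X, W₁ = wOf 𝒜 P₁ := ⟨_, rfl⟩
  have hWW₁ : W ≤ W₁ := by
    rw [hWdef, hW₁def]
    apply wOf_anti
    rw [hP₁def]; exact inf_le_left
  have hNW₁ : Subgroup.normalizer (P₁ : Set X) ≤ Subgroup.normalizer (W₁ : Set X) := by
    by_cases hex : ∃ A ∈ 𝒜, A ≤ P₁
    · rw [hW₁def]
      exact h.hinv P₁ (by rw [hP₁def]; exact inf_le_left) hex
    · have htop : W₁ = ⊤ := by
        rw [hW₁def, eq_top_iff]
        intro x _
        rw [mem_wOf]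
        intro A hA hAP
        exact absurd ⟨A, hA, hAP⟩ hex
      intro g _
      rw [htop, Subgroup.normalizer_eq_top]
      trivial
  obtain ⟨Bs, hBsdef⟩ : ∃ Bs : Subgroup X, Bs = B ⊓ W₁ := ⟨_, rfl⟩
  have hBsB : Bs ≤ B := by rw [hBsdef]; exact inf_le_left
  have hBsW₁ : Bs ≤ W₁ := by rw [hBsdef]; exact inf_le_right
  have hNBs : Subgroup.normalizer (P₁ : Set X) ≤ Subgroup.normalizer (Bs : Set X) := by
    intro g hg
    rw [hBsdef]
    exact mem_normalizer_inf (hBtop g) (hNW₁ hg)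
  have hW₁Bs : W ⊓ B ≤ Bs := by
    rw [hBsdef]
    exact le_inf inf_le_right (inf_le_left.trans hWW₁)
  have hBscl2 : ⁅⁅Bs, Bs⁆, Bs⁆ = ⊥ := by
    rw [eq_bot_iff, ← hcl2]
    exact Subgroup.commutator_mono (Subgroup.commutator_mono hBsB hBsB) hBsB
  have hfinish : Subgroup.normalizer (P₁ : Set X) ≤
      Subgroup.normalizer ((W ⊓ B : Subgroup X) : Set X) → (W ⊓ B).Normal := by
    intro hle
    rw [← Subgroup.normalizer_eq_top_iff, eq_top_iff, ← hfrat]
    exact sup_le hle hLN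
  by_contra hnot
  have hall : ∀ A ∈ 𝒜, Bs ≤ A := by
    intro U hU
    by_contra hBU
    obtain ⟨A, hA, -, hnBA, hBNA⟩ := h.hrep Bs (hBsB.trans hBT) hBscl2
      ⟨U, hU, ((Subgroup.commutator_mono hBsB hBsB).trans hB'W).trans (hWA U hU), hBU⟩
    have hTN : (T : Subgroup X) ≤ Subgroup.normalizer (Bs : Set X) := hTP₁.trans hNBs
    rcases eq_or_lt_of_le hTN with hTeq | hTlt
    · -- the normalizer of `Bs` is `T`
      apply hnot
      apply hfinish
      intro g hg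
      have : g ∈ (T : Subgroup X) := by
        rw [hTeq]; exact hNBs hg
      exact hTW₁ this
    · have htop : Subgroup.normalizer (Bs : Set X) = ⊤ := h.hco.2 _ hTlt
      have hBsn : Bs.Normal := Subgroup.normalizer_eq_top_iff.mp htop
      have hBsp : IsPGroup p Bs := hBp.to_le hBsB
      obtain ⟨K, hKdef⟩ : ∃ K : Subgroup X,
          K = (pCore p (X ⧸ Subgroup.centralizer (Bs : Set X))).comap
            (QuotientGroup.mk' (Subgroup.centralizer (Bs : Set X))) := ⟨_, rfl⟩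
      have hKn : K.Normal := by rw [hKdef]; infer_instance
      have hKN : K ≤ Subgroup.normalizer ((W ⊓ B : Subgroup X) : Set X) := by
        rw [hKdef]
        exact comap_pCore_le_normalizer T Bs (W ⊓ B) hW₁Bs hTW₁
      have hKL : K ≤ L := hLmax K hKn hKN
      have hAK : A ≤ K := by
        intro a ha
        have hquad : QuadOn Bs a := quadOn_of_le_normalizer (h.hab A hA) hBNA ha
        have h4 := h.hst Bs hBsp a ((quadOn_iff Bs a).mp hquad)
        rw [hKdef]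
        exact h4
      have hAP₁ : A ≤ P₁ := by
        rw [hP₁def]
        exact le_inf (h.hsub A hA) (hAK.trans hKL)
      have hW₁A : W₁ ≤ A := by
        rw [hW₁def]; exact wOf_le_of_mem hA hAP₁
      exact hnBA (hBsW₁.trans hW₁A)
  apply hnot
  have hBsW : Bs ≤ W := by
    intro x hx
    rw [hWdef, mem_wOf]
    intro A hA _
    exact hall A hA hx
  have hBseq : Bs = W ⊓ B := le_antisymm (le_inf hBsW hBsB) hW₁Bs
  apply hfinish
  rw [← hBseq]
  exact hNBs

/-- `W ≤ O_p(X)` when `C_X(O_p(X)) ≤ O_p(X)`. -/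
theorem ax_le_pCore [Finite X] {p : ℕ} [Fact p.Prime] (T : Sylow p X) (𝒜 : Set (Subgroup X))
    (h : AxCtx p T 𝒜)
    (hc : Subgroup.centralizer (pCore p X : Set X) ≤ pCore p X) :
    wOf 𝒜 (T : Subgroup X) ≤ pCore p X := by
  obtain ⟨W, hWdef⟩ : ∃ W : Subgroup X, W = wOf 𝒜 (T : Subgroup X) := ⟨_, rfl⟩
  rw [← hWdef]
  obtain ⟨A₀, hA₀⟩ := h.hne
  have hWA : ∀ A ∈ 𝒜, W ≤ A := fun A hA => hWdef ▸ wOf_le_of_mem hA (h.hsub A hA)
  have hVn : (pCore p X).Normal := inferInstance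
  have hVp : IsPGroup p (pCore p X) := pCore_isPGroup p X
  have hVS : pCore p X ≤ (T : Subgroup X) := pCore_le_sylow T
  have hTW : (T : Subgroup X) ≤ Subgroup.normalizer (W : Set X) := by
    rw [hWdef]
    exact Subgroup.le_normalizer.trans (h.hinv _ le_rfl ⟨A₀, hA₀, h.hsub A₀ hA₀⟩)
  have hCn : (Subgroup.centralizer (pCore p X : Set X)).Normal := inferInstance
  have hKS : (pCore p (X ⧸ Subgroup.centralizer (pCore p X : Set X))).comap
      (QuotientGroup.mk' (Subgroup.centralizer (pCore p X : Set X))) ≤ (T : Subgroup X) := by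
    intro l hl
    obtain ⟨s, hs, hcl⟩ := exists_sylow_mul_of_mem_pCore_quotient T
      (Subgroup.centralizer (pCore p X : Set X)) (l := l) hl
    have h1 : s⁻¹ * l ∈ (T : Subgroup X) := hVS (hc hcl)
    have h2 := mul_mem hs h1
    rwa [mul_inv_cancel_left] at h2
  have hKV : (pCore p (X ⧸ Subgroup.centralizer (pCore p X : Set X))).comap
      (QuotientGroup.mk' (Subgroup.centralizer (pCore p X : Set X))) ≤ pCore p X :=
    le_pCore inferInstance (T.isPGroup'.to_le hKS)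
  intro z hz
  apply hKV
  have hquad : QuadOn (pCore p X) z := by
    intro v hv
    have h1 : v * z * v⁻¹ ∈ W := (Subgroup.mem_normalizer_iff.mp (hTW (hVS hv)) z).mp hz
    have h2 : ⁅v, z⁆ ∈ W := by
      rw [commutatorElement_def]; exact mul_mem h1 (inv_mem hz)
    have h3 := Subgroup.le_centralizer_iff_isMulCommutative.mpr (h.hab A₀ hA₀)
      (hWA A₀ hA₀ hz) _ (hWA A₀ hA₀ h2)
    exact h3.symm
  exact h.hst (pCore p X) hVp z ((quadOn_iff _ z).mp hquad)

/-- **The axiomatic ZJ-theorem.** -/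
theorem ax_normal [Finite X] {p : ℕ} [Fact p.Prime] (T : Sylow p X) (𝒜 : Set (Subgroup X))
    (h : AxCtx p T 𝒜)
    (hc : Subgroup.centralizer (pCore p X : Set X) ≤ pCore p X) :
    (wOf 𝒜 (T : Subgroup X)).Normal := by
  have h1 := ax_key T 𝒜 h _ (pCore p X) inferInstance (pCore_isPGroup p X) rfl
  rw [inf_eq_left.mpr (ax_le_pCore T 𝒜 h hc)] at h1
  exact h1

end Cfsg.Agent.Lib.Helper11.AxZJ
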