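import Cfsg.Agent.Lib.Helper11.AxZJ.GT
import Cfsg.Agent.Lib.Helper11.FusGT.Closed

set_option autoImplicit false
set_option linter.unusedSectionVars false
set_option linter.style.haveILetI false

/-!
# The axiomatic Glauberman-Thompson criterion for constrained fusion systems
-/

namespace Cfsg.Agent.Lib.Helper11.AxZJ

open scoped commutatorElement
open Cfsg Cfsg.FusionSystem Cfsg.Agent.Lib.Helper88 Cfsg.Agent.Lib.Helper11
open Cfsg.Agent.Lib.Helper87 (hom_le hom_mem_S subtype_mem inv_exists mem_autGroup_iff finite_of_le)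
open Cfsg.Agent.S5132 (mem_pre pre_le)

universe u

variable {Ω : Type u} [Group Ω] {S : Subgroup Ω}

/-- automorphisms of order prime to `p` normalizing `W` are trivial -/
def HypW (F : FusionSystem S) (p : ℕ) (W : Subgroup Ω) : Prop :=
  ∀ P : Subgroup Ω, P ≤ S → ∀ α ∈ F.autGroup P, (orderOf α).Coprime p → W ≤ P →
    (∀ x : P, (x : Ω) ∈ W → ((α x : P) : Ω) ∈ W) → α = 1

theorem hypW_of_normalizer_inner [Finite S] {p : ℕ} [Fact p.Prime] (hS : IsPGroup p S)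
    (F : FusionSystem S) (W : Subgroup Ω) (hWS : W ≤ S)
    (hSN : S ≤ Subgroup.normalizer (W : Set Ω))
    (h : ∀ N : FusionSystem (normalizerIn S W), F.IsNormalizerSystem W N → ∀ P : Subgroup Ω,
      N.Hom P = (innerFusionSystem (normalizerIn S W)).Hom P) : HypW F p W := by
  let N := Cfsg.Agent.Lib.Helper84.normalizerSystem F W hWS
  have hN : F.IsNormalizerSystem W N := Cfsg.Agent.Lib.Helper84.normalizerSystem_spec F _ hWS
  have hfinN : Finite (normalizerIn S W) := finite_of_le inf_le_left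
  have hNp : IsPGroup p (normalizerIn S W) := hS.to_le inf_le_left
  have hNfree : PFree N p := pFree_of_eq_inner hNp N (h N hN)
  intro P hP α hα hcop hZP hαZ
  have hPN : P ≤ normalizerIn S W := fun x hx => ⟨hP hx, hSN (hP hx)⟩
  exact hNfree P hPN α (mem_autGroup_normalizerSystem F hN hZP hPN hα hαZ) hcop

/-- the normalizer of the image of `W` in a realizing group has a normal `p`-complement -/
theorem hasNPC_normalizer_of_hypW [Finite S] {p : ℕ} [Fact p.Prime] (F : FusionSystem S)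
    {G : Type*} [Group G] [Finite G] (ι : S →* G) (hreal : F.IsRealizedBy ι) (T : Sylow p G)
    (hT : (T : Subgroup G) = ι.range) (W : Subgroup Ω) (hWS : W ≤ S) (hyp : HypW F p W)
    (Z : Subgroup G) (hZ : Z = (W.subgroupOf S).map ι)
    (hTZ : (T : Subgroup G) ≤ Subgroup.normalizer (Z : Set G)) :
    HasNormalPComplement p ↥(Subgroup.normalizer (Z : Set G)) := by
  have hinj : Function.Injective ι := hreal.1
  have hZT : Z ≤ (T : Subgroup G) := by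
    rw [hZ, hT]
    rintro _ ⟨s, -, rfl⟩
    exact ⟨s, rfl⟩
  obtain ⟨H, hHdef⟩ : ∃ H : Subgroup G, H = Subgroup.normalizer (Z : Set G) := ⟨_, rfl⟩
  rw [← hHdef]
  have hTH : (T : Subgroup G) ≤ H := by rw [hHdef]; exact hTZ
  let TH : Sylow p H := T.subtype hTH
  have hTHcoe : (TH : Subgroup H) = (T : Subgroup G).subgroupOf H := Sylow.coe_subtype _ _
  rw [Cfsg.Agent.Lib.Helper2.hasNormalPComplement_iff TH, Cfsg.Agent.S0071.result TH]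
  intro Q₁ hQ₁ g hg hcop
  have hQ₁T : ∀ q ∈ Q₁, ((q : H) : G) ∈ (T : Subgroup G) := by
    intro q hq
    have := hQ₁ hq
    rw [hTHcoe] at this
    exact Subgroup.mem_subgroupOf.mp this
  obtain ⟨Q₂, hQ₂def⟩ : ∃ Q₂ : Subgroup G, Q₂ = Q₁.map H.subtype ⊔ Z := ⟨_, rfl⟩
  have hQ₂ : Q₂ ≤ ι.range := by
    rw [← hT, hQ₂def]
    apply sup_le
    · rintro _ ⟨q, hq, rfl⟩
      exact hQ₁T q hq
    · exact hZT
  have hgH : (g : G) ∈ Subgroup.normalizer (Z : Set G) := by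
    have hle : H ≤ Subgroup.normalizer (Z : Set G) := hHdef.le
    exact hle g.2
  have hgN1 : (g : G) ∈ Subgroup.normalizer ((Q₁.map H.subtype : Subgroup G) : Set G) := by
    rw [Subgroup.mem_normalizer_iff]
    intro y
    rw [Subgroup.mem_normalizer_iff] at hg
    constructor
    · rintro ⟨q, hq, rfl⟩
      exact ⟨g * q * g⁻¹, (hg q).mp hq, rfl⟩
    · rintro ⟨q, hq, hqy⟩
      have hy : y ∈ H := by
        have h1 : (g : G)⁻¹ * ((g : G) * y * (g : G)⁻¹) * (g : G) ∈ H :=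
          H.mul_mem (H.mul_mem (H.inv_mem g.2) (hqy ▸ q.2)) g.2
        have e : (g : G)⁻¹ * ((g : G) * y * (g : G)⁻¹) * (g : G) = y := by group
        rwa [e] at h1
      refine ⟨⟨y, hy⟩, (hg ⟨y, hy⟩).mpr ?_, rfl⟩
      have : g * ⟨y, hy⟩ * g⁻¹ = q := Subtype.ext hqy.symm
      rw [this]
      exact hq
  have hgN : (g : G) ∈ Subgroup.normalizer (Q₂ : Set G) := by
    rw [hQ₂def]
    exact mem_normalizer_sup' hgN1 hgH
  obtain ⟨γ, hγ, hγg⟩ := exists_aut_of_mem_normalizer F ι hreal Q₂ hQ₂ (g : G) hgN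
  have hγcop : (orderOf γ).Coprime p := by
    have h1 := hγg.orderOf_dvd hinj
    rw [Subgroup.orderOf_coe] at h1
    exact Nat.Coprime.coprime_dvd_left h1 hcop
  have hPS : preimageAlong ι Q₂ ≤ S := pre_le ι Q₂
  have hb1 : W ≤ preimageAlong ι Q₂ := by
    intro x hx
    have hxS : x ∈ S := hWS hx
    refine mem_pre.mpr ⟨hxS, ?_⟩
    rw [hQ₂def]
    apply (le_sup_right : Z ≤ Q₁.map H.subtype ⊔ Z)
    rw [hZ]
    exact ⟨⟨x, hxS⟩, Subgroup.mem_subgroupOf.mpr hx, rfl⟩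
  have hb2 : ∀ x : ↥(preimageAlong ι Q₂), (x : Ω) ∈ W →
      ((γ x : ↥(preimageAlong ι Q₂)) : Ω) ∈ W := by
    intro x hx
    have h1 := hγg x
    have h2 : ι ⟨x, hPS x.2⟩ ∈ Z := by
      rw [hZ]
      exact ⟨⟨x, hPS x.2⟩, Subgroup.mem_subgroupOf.mpr hx, rfl⟩
    have h3 : (g : G) * ι ⟨x, hPS x.2⟩ * (g : G)⁻¹ ∈ Z :=
      (Subgroup.mem_normalizer_iff.mp hgH _).mp h2
    rw [← h1, hZ] at h3
    obtain ⟨z, hz, hzx⟩ := h3
    have h4 := hinj hzx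
    have h5 : (z : Ω) ∈ W := Subgroup.mem_subgroupOf.mp hz
    rw [h4] at h5
    exact h5
  have hγ1 : γ = 1 := hyp _ hPS γ hγ hγcop hb1 hb2
  rw [Subgroup.mem_centralizer_iff]
  intro q hq
  apply Subtype.ext
  show (q : G) * (g : G) = (g : G) * (q : G)
  have hqQ₂ : (q : G) ∈ Q₂ := by
    rw [hQ₂def]
    exact (le_sup_left : Q₁.map H.subtype ≤ Q₁.map H.subtype ⊔ Z) ⟨q, hq, rfl⟩
  obtain ⟨s, hs⟩ := hQ₂ hqQ₂
  have hsP : (s : Ω) ∈ preimageAlong ι Q₂ := mem_pre.mpr ⟨s.2, by rw [hs]; exact hqQ₂⟩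
  have h1 := hγg ⟨s, hsP⟩
  rw [hγ1] at h1
  have h2 : ι s = (g : G) * ι s * (g : G)⁻¹ := h1
  rw [hs] at h2
  calc (q : G) * (g : G) = ((g : G) * (q : G) * (g : G)⁻¹) * (g : G) := by rw [← h2]
    _ = (g : G) * (q : G) := by group

/-- the family on the abstract group `S` -/
def fam₀ (𝒜 : Set (Subgroup Ω)) : Set (Subgroup ↥S) := {A₀ | A₀.map S.subtype ∈ 𝒜}

theorem subgroupOf_mem_fam₀ {𝒜 : Set (Subgroup Ω)} {A : Subgroup Ω} (hA : A ∈ 𝒜) (hAS : A ≤ S) :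
    A.subgroupOf S ∈ fam₀ (S := S) 𝒜 := by
  show (A.subgroupOf S).map S.subtype ∈ 𝒜
  rw [Subgroup.map_subgroupOf_eq_of_le hAS]
  exact hA

theorem mem_iInf_fam_iff (𝒜 : Set (Subgroup Ω)) (h𝒜 : ∀ A ∈ 𝒜, A ≤ S) (P : Subgroup Ω) (x : S) :
    (x : Ω) ∈ (⨅ A ∈ {A : Subgroup Ω | A ∈ 𝒜 ∧ A ≤ P}, A) ↔
      x ∈ wOf (fam₀ (S := S) 𝒜) (P.subgroupOf S) := by
  simp only [Subgroup.mem_iInf]
  rw [mem_wOf]
  constructor
  · intro h A₀ hA₀ hA₀P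
    have h1 := h (A₀.map S.subtype) ⟨hA₀, by
      rintro _ ⟨a, ha, rfl⟩
      exact Subgroup.mem_subgroupOf.mp (hA₀P ha)⟩
    exact (Subgroup.mem_map_iff_mem S.subtype_injective (x := x)).mp h1
  · rintro h A ⟨hA, hAP⟩
    have h1 := h (A.subgroupOf S) (subgroupOf_mem_fam₀ hA (h𝒜 A hA))
      (fun a ha => Subgroup.mem_subgroupOf.mpr (hAP (Subgroup.mem_subgroupOf.mp ha)))
    exact Subgroup.mem_subgroupOf.mp h1

theorem mem_iInf_all_iff (𝒜 : Set (Subgroup Ω)) (h𝒜 : ∀ A ∈ 𝒜, A ≤ S) (x : S) :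
    (x : Ω) ∈ (⨅ A ∈ 𝒜, A) ↔ x ∈ wOf (fam₀ (S := S) 𝒜) ⊤ := by
  simp only [Subgroup.mem_iInf]
  rw [mem_wOf]
  constructor
  · intro h A₀ hA₀ _
    have h1 := h (A₀.map S.subtype) hA₀
    exact (Subgroup.mem_map_iff_mem S.subtype_injective (x := x)).mp h1
  · intro h A hA
    have h1 := h (A.subgroupOf S) (subgroupOf_mem_fam₀ hA (h𝒜 A hA)) le_top
    exact Subgroup.mem_subgroupOf.mp h1

/-- **The criterion for constrained systems.** -/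
theorem pFree_of_constrained_ax (p : ℕ) [Fact p.Prime] (hp2 : p ≠ 2) (F : FusionSystem S)
    (hfin : Finite S) (hS : IsPGroup p S) (hcon : F.IsConstrained p)
    (𝒜 : Set (Subgroup Ω)) (h𝒜 : ∀ A ∈ 𝒜, A ≤ S ∧ IsMulCommutative ↥A) (hne : 𝒜.Nonempty)
    (hinv : ∀ Q : Subgroup Ω, Q ≤ S → (∃ A ∈ 𝒜, A ≤ Q) → ∀ α ∈ F.autGroup Q, ∀ x : ↥Q,
      (x : Ω) ∈ (⨅ A ∈ {A : Subgroup Ω | A ∈ 𝒜 ∧ A ≤ Q}, A) →
      (((α : MulAut ↥Q) x : ↥Q) : Ω) ∈ (⨅ A ∈ {A : Subgroup Ω | A ∈ 𝒜 ∧ A ≤ Q}, A))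
    (hrep : ∀ B : Subgroup Ω, B ≤ S → ⁅⁅B, B⁆, B⁆ = ⊥ → (∃ A ∈ 𝒜, ⁅B, B⁆ ≤ A ∧ ¬ B ≤ A) →
      ∃ A ∈ 𝒜, ⁅B, B⁆ ≤ A ∧ ¬ B ≤ A ∧ B ≤ Subgroup.normalizer (A : Set Ω))
    (hyp : HypW F p (⨅ A ∈ 𝒜, A)) : PFree F p := by
  obtain ⟨G, _, ι, hfinG, hreal, ⟨T, hT⟩, hcent⟩ := exists_model hS F hcon
  have hinj : Function.Injective ι := hreal.1
  have h𝒜S : ∀ A ∈ 𝒜, A ≤ S := fun A hA => (h𝒜 A hA).1
  obtain ⟨A₁, hA₁⟩ := hne
  -- the family on `S`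
  have hab₀ : ∀ A ∈ fam₀ (S := S) 𝒜, IsMulCommutative A := by
    intro X hX
    have h := (h𝒜 _ hX).2
    rw [← Subgroup.le_centralizer_iff_isMulCommutative] at h ⊢
    intro a ha
    rw [Subgroup.mem_centralizer_iff]
    intro b hb
    have h1 := h (Subgroup.mem_map_of_mem S.subtype ha)
    rw [Subgroup.mem_centralizer_iff] at h1
    have h2 := h1 _ (Subgroup.mem_map_of_mem S.subtype hb)
    exact Subtype.ext h2
  have hne₀ : (fam₀ (S := S) 𝒜).Nonempty := ⟨_, subgroupOf_mem_fam₀ hA₁ (h𝒜S A₁ hA₁)⟩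
  have hrep₀ : ∀ B : Subgroup ↥S, ⁅⁅B, B⁆, B⁆ = ⊥ →
      (∃ A ∈ fam₀ (S := S) 𝒜, ⁅B, B⁆ ≤ A ∧ ¬ B ≤ A) →
      ∃ A ∈ fam₀ (S := S) 𝒜, ⁅B, B⁆ ≤ A ∧ ¬ B ≤ A ∧ B ≤ Subgroup.normalizer (A : Set ↥S) := by
    rintro B hcl ⟨A₀, hA₀, hBA, hnBA⟩
    have hsinj := S.subtype_injective
    have hcomm : (⁅B, B⁆).map S.subtype = ⁅B.map S.subtype, B.map S.subtype⁆ :=
      Subgroup.map_commutator _ _ _
    have hcl' : ⁅⁅B.map S.subtype, B.map S.subtype⁆, B.map S.subtype⁆ = ⊥ := by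
      rw [← hcomm, ← Subgroup.map_commutator, hcl, Subgroup.map_bot]
    obtain ⟨A, hA, h1, h2, h3⟩ := hrep (B.map S.subtype) (Subgroup.map_subtype_le _) hcl'
      ⟨A₀.map S.subtype, hA₀, by rw [← hcomm]; exact Subgroup.map_mono hBA,
        fun hle => hnBA ((Subgroup.map_le_map_iff_of_injective hsinj).mp hle)⟩
    have hmapA : (A.subgroupOf S).map S.subtype = A :=
      Subgroup.map_subgroupOf_eq_of_le (h𝒜S A hA)
    refine ⟨A.subgroupOf S, subgroupOf_mem_fam₀ hA (h𝒜S A hA), ?_, ?_, ?_⟩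
    · apply (Subgroup.map_le_map_iff_of_injective hsinj).mp
      rw [hmapA, hcomm]
      exact h1
    · intro hle
      apply h2
      rw [← hmapA]
      exact Subgroup.map_mono hle
    · intro b hb
      have hbN : (b : Ω) ∈ Subgroup.normalizer (A : Set Ω) := h3 ⟨b, hb, rfl⟩
      rw [Subgroup.mem_normalizer_iff] at hbN ⊢
      intro s
      rw [Subgroup.mem_subgroupOf, Subgroup.mem_subgroupOf]
      exact hbN (s : Ω)
  -- invariance in the model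
  have hinvG : ∀ Q₀ : Subgroup ↥S, (∃ A ∈ fam₀ (S := S) 𝒜, A ≤ Q₀) →
      Subgroup.normalizer ((Q₀.map ι : Subgroup G) : Set G) ≤
        Subgroup.normalizer (((wOf (fam₀ (S := S) 𝒜) Q₀).map ι : Subgroup G) : Set G) := by
    rintro Q₀ ⟨A₀, hA₀, hA₀Q⟩ g hg
    have hQ₂ : Q₀.map ι ≤ ι.range := by
      rintro _ ⟨y, -, rfl⟩
      exact ⟨y, rfl⟩
    obtain ⟨γ, hγ, hγg⟩ := exists_aut_of_mem_normalizer F ι hreal (Q₀.map ι) hQ₂ g hg
    have hPS : preimageAlong ι (Q₀.map ι) ≤ S := pre_le ι _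
    have hPsub : (preimageAlong ι (Q₀.map ι)).subgroupOf S = Q₀ := by
      ext x
      rw [Subgroup.mem_subgroupOf, mem_pre]
      constructor
      · rintro ⟨hx, h1⟩
        exact (Subgroup.mem_map_iff_mem hinj).mp h1
      · intro hx
        exact ⟨x.2, Subgroup.mem_map_of_mem ι hx⟩
    apply mem_normalizer_of_conj_mem
    rintro _ ⟨w, hw, rfl⟩
    have hwQ₀ : w ∈ Q₀ := hA₀Q (wOf_le_of_mem hA₀ hA₀Q hw)
    have hwP : (w : Ω) ∈ preimageAlong ι (Q₀.map ι) :=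
      mem_pre.mpr ⟨w.2, Subgroup.mem_map_of_mem ι hwQ₀⟩
    have hex : ∃ A ∈ 𝒜, A ≤ preimageAlong ι (Q₀.map ι) := by
      refine ⟨A₀.map S.subtype, hA₀, ?_⟩
      rintro _ ⟨a, ha, rfl⟩
      exact mem_pre.mpr ⟨a.2, Subgroup.mem_map_of_mem ι (hA₀Q ha)⟩
    have h1 := hinv _ hPS hex γ hγ ⟨w, hwP⟩
      ((mem_iInf_fam_iff 𝒜 h𝒜S _ w).mpr (by rw [hPsub]; exact hw))
    have h2 := (mem_iInf_fam_iff 𝒜 h𝒜S _ ⟨_, hPS (γ ⟨w, hwP⟩).2⟩).mp h1
    rw [hPsub] at h2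
    have h3 := hγg ⟨w, hwP⟩
    have h4 : ι ⟨(w : Ω), hPS hwP⟩ = ι w := rfl
    rw [h4] at h3
    rw [← h3]
    exact ⟨_, h2, rfl⟩
  -- the normalizer of `W`
  have hWS : (⨅ A ∈ 𝒜, A) ≤ S := (iInf₂_le A₁ hA₁).trans (h𝒜S A₁ hA₁)
  have hWsub : (⨅ A ∈ 𝒜, A).subgroupOf S = wOf (fam₀ (S := S) 𝒜) ⊤ := by
    ext x
    rw [Subgroup.mem_subgroupOf]
    exact mem_iInf_all_iff 𝒜 h𝒜S x
  have hTZ : (T : Subgroup G) ≤
      Subgroup.normalizer (((wOf (fam₀ (S := S) 𝒜) ⊤).map ι : Subgroup G) : Set G) := by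
    have h1 := hinvG ⊤ ⟨_, subgroupOf_mem_fam₀ hA₁ (h𝒜S A₁ hA₁), le_top⟩
    rw [← MonoidHom.range_eq_map, ← hT] at h1
    exact Subgroup.le_normalizer.trans h1
  have hNT := hasNPC_normalizer_of_hypW F ι hreal T hT _ hWS hyp _ (by rw [hWsub]) hTZ
  have hnpcG : HasNormalPComplement p G :=
    axgt p hp2 (fam₀ (S := S) 𝒜) hab₀ hne₀ hrep₀ _ G rfl ι hinj T hT hcent hinvG hNT
  rw [Cfsg.Agent.Lib.Helper2.hasNormalPComplement_iff T, Cfsg.Agent.S0071.result T] at hnpcG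
  exact pFree_of_realized F ι hreal (fun Q₁ hQ₁ => hnpcG Q₁ (hT ▸ hQ₁))

end Cfsg.Agent.Lib.Helper11.AxZJ
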