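import Cfsg.Agent.Lib.Helper11.AxZJ.Core
import Cfsg.Agent.Lib.Helper11.CharFunctor
import Cfsg.Agent.S0659

set_option autoImplicit false
set_option linter.unusedSectionVars false
set_option linter.style.haveILetI false
open Cfsg

/-!
# The axiomatic Glauberman-Thompson criterion, for a group containing a fixed `p`-group

The family `𝒜₀` lives on an abstract `p`-group `S₀`, embedded as a Sylow `p`-subgroup of `X`.
-/

namespace Cfsg.Agent.Lib.Helper11.AxZJ

open scoped commutatorElement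
open Cfsg.Agent.Lib.Helper11

universe u

section transl

variable {S₀ : Type*} [Group S₀] {X : Type*} [Group X]

/-- the image family -/
def imgFam (ι : S₀ →* X) (𝒜₀ : Set (Subgroup S₀)) : Set (Subgroup X) := (Subgroup.map ι) '' 𝒜₀

theorem wOf_imgFam (ι : S₀ →* X) (hι : Function.Injective ι) (𝒜₀ : Set (Subgroup S₀))
    (Q : Subgroup X) (hex : ∃ A₀ ∈ 𝒜₀, A₀.map ι ≤ Q) :
    wOf (imgFam ι 𝒜₀) Q = (wOf 𝒜₀ (Q.comap ι)).map ι := by
  ext x
  constructor
  · intro hx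
    rw [mem_wOf] at hx
    obtain ⟨A₀, hA₀, hA₀Q⟩ := hex
    obtain ⟨y, hy, rfl⟩ := hx (A₀.map ι) ⟨A₀, hA₀, rfl⟩ hA₀Q
    refine ⟨y, ?_, rfl⟩
    rw [SetLike.mem_coe, mem_wOf]
    intro A₁ hA₁ hA₁Q
    obtain ⟨y₁, hy₁, hyy⟩ := hx (A₁.map ι) ⟨A₁, hA₁, rfl⟩ (Subgroup.map_le_iff_le_comap.mpr hA₁Q)
    rw [← hι hyy]
    exact hy₁
  · rintro ⟨y, hy, rfl⟩
    rw [SetLike.mem_coe, mem_wOf] at hy
    rw [mem_wOf]
    rintro _ ⟨A₁, hA₁, rfl⟩ hA₁Q
    exact Subgroup.mem_map_of_mem ι (hy A₁ hA₁ (Subgroup.map_le_iff_le_comap.mp hA₁Q))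

theorem axCtx_of_emb [Finite X] {p : ℕ} [Fact p.Prime] (T : Sylow p X) (ι : S₀ →* X)
    (hι : Function.Injective ι) (hT : (T : Subgroup X) = ι.range)
    (𝒜₀ : Set (Subgroup S₀)) (hab : ∀ A ∈ 𝒜₀, IsMulCommutative A) (hne : 𝒜₀.Nonempty)
    (hrep₀ : ∀ B : Subgroup S₀, ⁅⁅B, B⁆, B⁆ = ⊥ → (∃ A ∈ 𝒜₀, ⁅B, B⁆ ≤ A ∧ ¬ B ≤ A) →
      ∃ A ∈ 𝒜₀, ⁅B, B⁆ ≤ A ∧ ¬ B ≤ A ∧ B ≤ Subgroup.normalizer (A : Set S₀))
    (hinv : ∀ Q₀ : Subgroup S₀, (∃ A ∈ 𝒜₀, A ≤ Q₀) →
      Subgroup.normalizer ((Q₀.map ι : Subgroup X) : Set X) ≤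
        Subgroup.normalizer (((wOf 𝒜₀ Q₀).map ι : Subgroup X) : Set X))
    (hst : ∀ (V : Subgroup X) [V.Normal], IsPGroup p V → IsPStableOn p V)
    (hco : IsCoatom (T : Subgroup X)) :
    AxCtx p T (imgFam ι 𝒜₀) := by
  refine ⟨?_, ?_, hne.image _, ?_, ?_, hst, hco⟩
  · rintro _ ⟨A₀, -, rfl⟩
    rw [hT]
    rintro _ ⟨y, -, rfl⟩
    exact ⟨y, rfl⟩
  · rintro _ ⟨A₀, hA₀, rfl⟩
    have := hab A₀ hA₀
    infer_instance
  · rintro Q hQ ⟨_, ⟨A₀, hA₀, rfl⟩, hAQ⟩
    have hmap : (Q.comap ι).map ι = Q := Subgroup.map_comap_eq_self (hQ.trans hT.le)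
    have h1 := hinv (Q.comap ι) ⟨A₀, hA₀, Subgroup.map_le_iff_le_comap.mp hAQ⟩
    rw [hmap] at h1
    rw [wOf_imgFam ι hι 𝒜₀ Q ⟨A₀, hA₀, hAQ⟩]
    exact h1
  · rintro B hB hcl ⟨_, ⟨A₀, hA₀, rfl⟩, hBA, hnBA⟩
    have hmapB : (B.comap ι).map ι = B := Subgroup.map_comap_eq_self (hB.trans hT.le)
    have hcomm : (⁅B.comap ι, B.comap ι⁆).map ι = ⁅B, B⁆ := by
      rw [Subgroup.map_commutator, hmapB]
    have hcl₀ : ⁅⁅B.comap ι, B.comap ι⁆, B.comap ι⁆ = ⊥ := by
      apply (Subgroup.map_eq_bot_iff_of_injective _ hι).mp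
      rw [Subgroup.map_commutator, hcomm, hmapB, hcl]
    obtain ⟨A₁, hA₁, h1, h2, h3⟩ := hrep₀ (B.comap ι) hcl₀ ⟨A₀, hA₀,
      (Subgroup.map_le_map_iff_of_injective hι).mp (by rw [hcomm]; exact hBA),
      fun hle => hnBA (by rw [← hmapB]; exact Subgroup.map_mono hle)⟩
    refine ⟨A₁.map ι, ⟨A₁, hA₁, rfl⟩, ?_, ?_, ?_⟩
    · rw [← hcomm]; exact Subgroup.map_mono h1
    · intro hle
      apply h2
      rw [← hmapB] at hle
      exact (Subgroup.map_le_map_iff_of_injective hι).mp hle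
    · rw [← hmapB]
      exact (Subgroup.map_mono h3).trans (Subgroup.le_normalizer_map ι)

theorem mem_normalizer_of_coe_mem {Y : Subgroup X} (K : Subgroup ↥Y) (g : ↥Y)
    (hg : (g : X) ∈ Subgroup.normalizer ((K.map Y.subtype : Subgroup X) : Set X)) :
    g ∈ Subgroup.normalizer (K : Set ↥Y) := by
  rw [Subgroup.mem_normalizer_iff] at hg ⊢
  intro k
  have h1 := hg (k : X)
  have e1 : ((k : X) ∈ K.map Y.subtype) ↔ k ∈ K :=
    Subgroup.mem_map_iff_mem Y.subtype_injective (x := k)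
  have e2 : ((g : X) * (k : X) * (g : X)⁻¹ ∈ K.map Y.subtype) ↔ g * k * g⁻¹ ∈ K :=
    Subgroup.mem_map_iff_mem Y.subtype_injective (x := g * k * g⁻¹)
  rw [← e1, ← e2]
  exact h1

theorem centralizer_pCore_le_of_le [Finite X] {p : ℕ} [Fact p.Prime] (T : Sylow p X)
    (Y : Subgroup X) (hTY : (T : Subgroup X) ≤ Y)
    (hc : Subgroup.centralizer (pCore p X : Set X) ≤ pCore p X) :
    Subgroup.centralizer (pCore p ↥Y : Set ↥Y) ≤ pCore p ↥Y := by
  have hHn : (pCore p X).Normal := inferInstance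
  have hRn : ((pCore p X).subgroupOf Y).Normal := Subgroup.Normal.subgroupOf hHn Y
  have hRp : IsPGroup p ((pCore p X).subgroupOf Y) := (pCore_isPGroup p X).comap_subtype
  have hR : (pCore p X).subgroupOf Y ≤ pCore p ↥Y := le_pCore hRn hRp
  intro y hy
  apply hR
  rw [Subgroup.mem_subgroupOf]
  apply hc
  rw [Subgroup.mem_centralizer_iff]
  intro h hh
  have hhY : h ∈ Y := hTY (pCore_le_sylow T hh)
  have h1 := Subgroup.mem_centralizer_iff.mp hy ⟨h, hhY⟩
    (hR (Subgroup.mem_subgroupOf.mpr hh))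
  exact congrArg Subtype.val h1

end transl

/-- **The axiomatic Glauberman-Thompson criterion** for groups with `C_X(O_p(X)) ≤ O_p(X)`. -/
theorem axgt (p : ℕ) [hp : Fact p.Prime] (hp2 : p ≠ 2) {S₀ : Type u} [Group S₀]
    (𝒜₀ : Set (Subgroup S₀)) (hab : ∀ A ∈ 𝒜₀, IsMulCommutative A) (hne : 𝒜₀.Nonempty)
    (hrep₀ : ∀ B : Subgroup S₀, ⁅⁅B, B⁆, B⁆ = ⊥ → (∃ A ∈ 𝒜₀, ⁅B, B⁆ ≤ A ∧ ¬ B ≤ A) →
      ∃ A ∈ 𝒜₀, ⁅B, B⁆ ≤ A ∧ ¬ B ≤ A ∧ B ≤ Subgroup.normalizer (A : Set S₀)) :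
    ∀ n : ℕ, ∀ (X : Type u) [Group X] [Finite X], Nat.card X = n → ∀ (ι : S₀ →* X),
      Function.Injective ι → ∀ T : Sylow p X, (T : Subgroup X) = ι.range →
      Subgroup.centralizer (pCore p X : Set X) ≤ pCore p X →
      (∀ Q₀ : Subgroup S₀, (∃ A ∈ 𝒜₀, A ≤ Q₀) →
        Subgroup.normalizer ((Q₀.map ι : Subgroup X) : Set X) ≤
          Subgroup.normalizer (((wOf 𝒜₀ Q₀).map ι : Subgroup X) : Set X)) →
      HasNormalPComplement p
        ↥(Subgroup.normalizer (((wOf 𝒜₀ ⊤).map ι : Subgroup X) : Set X)) →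
      HasNormalPComplement p X := by
  intro n
  induction n using Nat.strong_induction_on with
  | _ n ih =>
  intro X _ _ hn ι hι T hT hcent hinv hNT
  by_contra hno
  have hp' := hp.out
  -- (a) proper subgroups containing `T` have normal `p`-complements
  have hprop : ∀ Y : Subgroup X, (T : Subgroup X) ≤ Y → Y ≠ ⊤ → HasNormalPComplement p ↥Y := by
    intro Y hTY hYtop
    have hYlt : Nat.card ↥Y < n := by
      rw [← hn, ← Subgroup.card_top (G := X)]
      exact card_lt_of_lt (lt_top_iff_ne_top.mpr hYtop)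
    have hιY : ∀ s, ι s ∈ Y := fun s => hTY (hT ▸ ⟨s, rfl⟩)
    obtain ⟨ιY, hιYdef⟩ : ∃ ιY : S₀ →* ↥Y, ιY = ι.codRestrict Y hιY := ⟨_, rfl⟩
    have hcomp : Y.subtype.comp ιY = ι := by
      rw [hιYdef]; ext s; rfl
    have hιYinj : Function.Injective ιY := by
      intro a b hab'
      apply hι
      have := congrArg (fun y : ↥Y => (y : X)) hab'
      rw [hιYdef] at this
      exact this
    have hmapιY : ∀ Q₀ : Subgroup S₀, (Q₀.map ιY).map Y.subtype = Q₀.map ι := by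
      intro Q₀
      rw [Subgroup.map_map, hcomp]
    obtain ⟨TY, hTY'⟩ : ∃ TY : Sylow p ↥Y, (TY : Subgroup ↥Y) = (T : Subgroup X).subgroupOf Y :=
      ⟨T.subtype hTY, rfl⟩
    have hTYrange : (TY : Subgroup ↥Y) = ιY.range := by
      rw [hTY']
      ext y
      rw [Subgroup.mem_subgroupOf, hT]
      constructor
      · rintro ⟨s, hs⟩
        refine ⟨s, ?_⟩
        apply Subtype.ext
        rw [← hs, hιYdef]
        rfl
      · rintro ⟨s, rfl⟩
        refine ⟨s, ?_⟩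
        rw [hιYdef]
        rfl
    have hcentY := centralizer_pCore_le_of_le T Y hTY hcent
    have hinvY : ∀ Q₀ : Subgroup S₀, (∃ A ∈ 𝒜₀, A ≤ Q₀) →
        Subgroup.normalizer ((Q₀.map ιY : Subgroup ↥Y) : Set ↥Y) ≤
          Subgroup.normalizer (((wOf 𝒜₀ Q₀).map ιY : Subgroup ↥Y) : Set ↥Y) := by
      intro Q₀ hex g hg
      apply mem_normalizer_of_coe_mem
      rw [hmapιY]
      apply hinv Q₀ hex
      rw [← hmapιY]
      exact Subgroup.le_normalizer_map Y.subtype ⟨g, hg, rfl⟩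
    have hNY : HasNormalPComplement p
        ↥(Subgroup.normalizer (((wOf 𝒜₀ ⊤).map ιY : Subgroup ↥Y) : Set ↥Y)) := by
      let f : ↥(Subgroup.normalizer (((wOf 𝒜₀ ⊤).map ιY : Subgroup ↥Y) : Set ↥Y)) →*
          ↥(Subgroup.normalizer (((wOf 𝒜₀ ⊤).map ι : Subgroup X) : Set X)) :=
        (Y.subtype.comp (Subgroup.subtype _)).codRestrict _ (by
          intro x
          rw [← hmapιY]
          exact Subgroup.le_normalizer_map _ ⟨x, x.2, rfl⟩)
      refine hasNPC_of_injective f ?_ hNT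
      intro x y hxy
      have h3 : ((f x : _) : X) = ((f y : _) : X) := congrArg Subtype.val hxy
      exact Subtype.ext (Subtype.ext h3)
    exact ih _ hYlt ↥Y rfl ιY hιYinj TY hTYrange hcentY hinvY hNY
  -- (b) `T` is a maximal subgroup
  have hHn : (pCore p X).Normal := inferInstance
  have hHp : IsPGroup p (pCore p X) := pCore_isPGroup p X
  have hHT : pCore p X ≤ (T : Subgroup X) := pCore_le_sylow T
  have hTne : (T : Subgroup X) ≠ ⊤ := by
    intro h
    apply hno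
    apply hasNPC_of_isPGroup
    intro x
    obtain ⟨k, hk⟩ := T.2 ⟨x, h ▸ Subgroup.mem_top x⟩
    exact ⟨k, congrArg Subtype.val hk⟩
  have hcoatom : IsCoatom (T : Subgroup X) := by
    refine ⟨hTne, ?_⟩
    intro Y hTY
    by_contra hYtop
    have hYnpc := hprop Y hTY.le hYtop
    obtain ⟨K, hK⟩ := exists_wit_of_hasNPC hYnpc
    have hHY : pCore p X ≤ Y := hHT.trans hTY.le
    have hHYn : ((pCore p X).subgroupOf Y).Normal := Subgroup.Normal.subgroupOf hHn Y
    have hKc := hK.le_centralizer hHYn hHp.comap_subtype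
    have hKbot : K = ⊥ := by
      rw [eq_bot_iff]
      intro k hk
      have h1 : (k : X) ∈ Subgroup.centralizer (pCore p X : Set X) := by
        rw [Subgroup.mem_centralizer_iff]
        intro h hh
        have := (Subgroup.mem_centralizer_iff.mp (hKc hk)) ⟨h, hHY hh⟩
          (Subgroup.mem_subgroupOf.mpr hh)
        exact congrArg Subtype.val this
      have h2 : (k : X) ∈ pCore p X := hcent h1
      have h3 := hK.2.1 k hk
      obtain ⟨j, hj⟩ := (IsPGroup.iff_orderOf.mp hHp) ⟨(k : X), h2⟩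
      rw [Subgroup.orderOf_mk, Subgroup.orderOf_coe] at hj
      rw [hj] at h3
      have hj0 : j = 0 := by
        by_contra hj0
        have h5 : p.Coprime p := Nat.Coprime.coprime_dvd_left (dvd_pow_self p hj0) h3
        exact hp'.one_lt.ne' ((Nat.coprime_self p).mp h5)
      rw [hj0, pow_zero] at hj
      exact Subgroup.mem_bot.mpr (orderOf_eq_one_iff.mp hj)
    have hYp : IsPGroup p ↥Y := by
      intro y
      obtain ⟨k, hk⟩ := hK.2.2 y
      rw [hKbot, Subgroup.mem_bot] at hk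
      exact ⟨k, hk⟩
    have hYT : Y = (T : Subgroup X) := T.is_maximal' hYp hTY.le
    exact absurd hYT.symm hTY.ne
  -- (c) `X / O_p(X)` has a normal `p`-complement
  have hquot : HasNormalPComplement p (X ⧸ pCore p X) := by
    have hsurj := QuotientGroup.mk'_surjective (pCore p X)
    obtain ⟨Tb, hTb⟩ : ∃ Tb : Sylow p (X ⧸ pCore p X), (Tb : Subgroup (X ⧸ pCore p X)) =
        (T : Subgroup X).map (QuotientGroup.mk' (pCore p X)) :=
      ⟨T.mapSurjective hsurj, rfl⟩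
    have hWA := Cfsg.Agent.S0659.isCharPFunctor_WA.{u} p
    apply Cfsg.Agent.S0659.result hp2 Tb
    rw [← Cfsg.Agent.S0659.inducedFunctor_WA]
    obtain ⟨Zb, hZb⟩ : ∃ Zb : Subgroup (X ⧸ pCore p X),
        Zb = inducedFunctor Cfsg.Agent.S0659.WA (Tb : Subgroup (X ⧸ pCore p X)) := ⟨_, rfl⟩
    rw [← hZb]
    have hZbT : Zb ≤ (Tb : Subgroup (X ⧸ pCore p X)) := by
      rw [hZb]; exact inducedFunctor_le _ _
    have hTbN : (Tb : Subgroup (X ⧸ pCore p X)) ≤ Subgroup.normalizer (Zb : Set (X ⧸ pCore p X)) := by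
      rw [hZb]
      exact Subgroup.le_normalizer.trans
        (normalizer_le_normalizer_inducedFunctor _ hWA _ Tb.2)
    obtain ⟨N, hNdef⟩ : ∃ N : Subgroup X,
        N = (Subgroup.normalizer (Zb : Set (X ⧸ pCore p X))).comap
          (QuotientGroup.mk' (pCore p X)) := ⟨_, rfl⟩
    have hmapN : N.map (QuotientGroup.mk' (pCore p X)) =
        Subgroup.normalizer (Zb : Set (X ⧸ pCore p X)) := by
      rw [hNdef]; exact Subgroup.map_comap_eq_self_of_surjective hsurj _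
    have hTN : (T : Subgroup X) ≤ N := by
      intro t ht
      rw [hNdef, Subgroup.mem_comap]
      apply hTbN
      rw [hTb]
      exact Subgroup.mem_map_of_mem _ ht
    rcases eq_or_lt_of_le hTN with heq | hlt
    · have h1 : Subgroup.normalizer (Zb : Set (X ⧸ pCore p X)) =
          (Tb : Subgroup (X ⧸ pCore p X)) := by
        rw [← hmapN, ← heq, hTb]
      apply hasNPC_of_isPGroup
      rw [h1]
      exact Tb.2
    · have htop : N = ⊤ := hcoatom.2 _ hlt
      have hNb : Subgroup.normalizer (Zb : Set (X ⧸ pCore p X)) = ⊤ := by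
        rw [← hmapN, htop, Subgroup.map_top_of_surjective _ hsurj]
      have hZbn : Zb.Normal := Subgroup.normalizer_eq_top_iff.mp hNb
      obtain ⟨L, hL⟩ : ∃ L : Subgroup X, L = Zb.comap (QuotientGroup.mk' (pCore p X)) :=
        ⟨_, rfl⟩
      have hLn : L.Normal := by rw [hL]; infer_instance
      have hLT : L ≤ (T : Subgroup X) := by
        intro x hx
        rw [hL, Subgroup.mem_comap] at hx
        have h1 := hZbT hx
        rw [hTb] at h1
        obtain ⟨t, ht, hxt⟩ := h1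
        have h2 : t⁻¹ * x ∈ pCore p X := by
          rw [← QuotientGroup.eq_one_iff, QuotientGroup.mk_mul, QuotientGroup.mk_inv]
          have : (QuotientGroup.mk t : X ⧸ pCore p X) = QuotientGroup.mk x := hxt
          rw [this, inv_mul_cancel]
        have h3 := mul_mem ht (hHT h2)
        rwa [mul_inv_cancel_left] at h3
      have hLH : L ≤ pCore p X := le_pCore hLn (T.2.to_le hLT)
      have hZbot : Zb = ⊥ := by
        rw [← Subgroup.map_comap_eq_self_of_surjective hsurj Zb, ← hL, eq_bot_iff]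
        rintro _ ⟨x, hx, rfl⟩
        rw [Subgroup.mem_bot, QuotientGroup.mk'_apply, QuotientGroup.eq_one_iff]
        exact hLH hx
      have hTbbot : (Tb : Subgroup (X ⧸ pCore p X)) = ⊥ := by
        by_contra hne'
        exact inducedFunctor_ne_bot _ hWA _ Tb.2 hne' (hZb ▸ hZbot)
      apply hasNPC_of_coprime_card
      have h1 : ¬ p ∣ (Tb : Subgroup (X ⧸ pCore p X)).index := Tb.not_dvd_index
      rw [hTbbot, Subgroup.index_bot] at h1
      have h2 : Nat.card ↥(Subgroup.normalizer (Zb : Set (X ⧸ pCore p X))) ∣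
          Nat.card (X ⧸ pCore p X) := Subgroup.card_subgroup_dvd_card _
      have h3 : (Nat.card (X ⧸ pCore p X)).Coprime p := by
        rw [Nat.coprime_comm, Nat.Prime.coprime_iff_not_dvd hp']
        exact h1
      exact Nat.Coprime.coprime_dvd_left h2 h3
  -- (d) the axiomatic ZJ-theorem
  have ctx : AxCtx p T (imgFam ι 𝒜₀) :=
    axCtx_of_emb T ι hι hT 𝒜₀ hab hne hrep₀ hinv
      (fun V _ hV => isPStableOn_of_coatom hp2 hquot T hcoatom V hV) hcoatom
  have hWn := ax_normal T _ ctx hcent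
  obtain ⟨A₀, hA₀⟩ := hne
  have hA₀T : A₀.map ι ≤ (T : Subgroup X) := by
    rw [hT]
    rintro _ ⟨y, -, rfl⟩
    exact ⟨y, rfl⟩
  rw [wOf_imgFam ι hι 𝒜₀ _ ⟨A₀, hA₀, hA₀T⟩] at hWn
  have htop : (T : Subgroup X).comap ι = ⊤ := by
    rw [eq_top_iff]
    intro x _
    rw [Subgroup.mem_comap, hT]
    exact ⟨x, rfl⟩
  rw [htop] at hWn
  apply hno
  rw [← hasNPC_top_iff, ← Subgroup.normalizer_eq_top_iff.mpr hWn]
  exact hNT

end Cfsg.Agent.Lib.Helper11.AxZJ
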